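import Mathlib

/-!
# Every even permutation of 2-power order is a product of two even involutions inverting it (helper52, S1252)
-/

set_option autoImplicit false

namespace Cfsg.Agent.ClosedAlt

open Equiv Equiv.Perm

variable {α : Type*}

/-- an involution inverting `x` and preserving its orbits -/
theorem exists_invert (x : Perm α) : ∃ u : Perm α, u * u = 1 ∧ u * x * u = x⁻¹ ∧ ∀ y, x.SameCycle y (u y) := by
  classical
  -- representatives
  let r : α → α := fun y => (Quotient.mk (SameCycle.setoid x) y).out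
  have hr : ∀ y, x.SameCycle (r y) y := fun y => Quotient.mk_out (s := SameCycle.setoid x) y
  have hrx : ∀ y z, x.SameCycle y z → r y = r z := by
    intro y z h
    have : (Quotient.mk (SameCycle.setoid x) y) = Quotient.mk (SameCycle.setoid x) z := Quotient.sound h
    show (Quotient.mk (SameCycle.setoid x) y).out = (Quotient.mk (SameCycle.setoid x) z).out
    rw [this]
  choose k hk using hr
  -- `hk y : (x ^ k y) (r y) = y`
  let f : α → α := fun y => (x ^ (-k y)) (r y)
  have key : ∀ (y : α) (m : ℤ), f ((x ^ m) (r y)) = (x ^ (-m)) (r y) := by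
    intro y m
    set w := (x ^ m) (r y) with hw
    have h1 : r w = r y := by
      apply hrx
      have h2 : x.SameCycle (r y) w := ⟨m, rfl⟩
      exact h2.symm.trans ⟨k y, hk y⟩
    have h2 : (x ^ k w) (r y) = (x ^ m) (r y) := by
      have h4 := hk w
      rw [h1] at h4
      exact h4
    show (x ^ (-k w)) (r w) = (x ^ (-m)) (r y)
    rw [h1]
    have h3 : (x ^ (k w + m)) ((x ^ (-m)) (r y)) = (x ^ (k w + m)) ((x ^ (-k w)) (r y)) := by
      rw [← mul_apply, ← mul_apply, ← zpow_add, ← zpow_add, show k w + m + -m = k w by ring,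
        show k w + m + -k w = m by ring]
      exact h2
    exact ((x ^ (k w + m)).injective h3).symm
  have hf : ∀ y, f (f y) = y := by
    intro y
    show f ((x ^ (-k y)) (r y)) = y
    rw [key, neg_neg, hk]
  let u : Perm α := ⟨f, f, hf, hf⟩
  have huf : ∀ y, u y = f y := fun _ => rfl
  refine ⟨u, ?_, ?_, ?_⟩
  · ext y
    show f (f y) = y
    exact hf y
  · ext y
    show f (x (f y)) = x⁻¹ y
    have h1 : x (f y) = (x ^ (1 - k y)) (r y) := by
      show x ((x ^ (-k y)) (r y)) = _
      rw [← mul_apply, ← zpow_one_add]; rfl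
    rw [h1, key]
    have h2 : -(1 - k y) = -1 + k y := by ring
    rw [h2, zpow_add, mul_apply, hk, zpow_neg_one]
  · intro y
    have h1 : x.SameCycle (r y) y := ⟨k y, hk y⟩
    have h2 : x.SameCycle (r y) (u y) := ⟨-k y, rfl⟩
    exact h1.symm.trans h2

/-- **Every even permutation `x` of 2-power order is a product `u v` of even permutations with `u² = v² = 1`,
`u x u = x⁻¹`.** -/
theorem exists_invert_even [Fintype α] [DecidableEq α] (x : Perm α) (hx : x ∈ alternatingGroup α)
    (h2 : ∃ k : ℕ, x ^ 2 ^ k = 1) :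
    ∃ u v : Perm α, u ∈ alternatingGroup α ∧ v ∈ alternatingGroup α ∧ u * u = 1 ∧ v * v = 1 ∧ x = u * v ∧
      u * x * u = x⁻¹ := by
  -- reduction to the existence of `u`
  suffices h : ∃ u : Perm α, u ∈ alternatingGroup α ∧ u * u = 1 ∧ u * x * u = x⁻¹ by
    obtain ⟨u, hu, hu2, hux⟩ := h
    refine ⟨u, u * x, hu, mul_mem hu hx, hu2, ?_, ?_, hux⟩
    · calc u * x * (u * x) = (u * x * u) * x := by group
        _ = 1 := by rw [hux, inv_mul_cancel]
    · rw [← mul_assoc, hu2, one_mul]
  by_cases hx1 : x = 1
  · exact ⟨1, one_mem _, mul_one 1, by rw [hx1]; simp⟩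
  obtain ⟨u, hu2, hux, hus⟩ := exists_invert x
  by_cases hu : u ∈ alternatingGroup α
  · exact ⟨u, hu, hu2, hux⟩
  obtain ⟨a, ha⟩ : ∃ a, x a ≠ a := by
    by_contra hcon
    push Not at hcon
    exact hx1 (Equiv.ext hcon)
  set c := x.cycleOf a with hc
  have hcyc : c.IsCycle := isCycle_cycleOf x ha
  have hcs : sign c = -1 := by
    rw [hcyc.sign]
    have h3 : c.support.card = orderOf c := hcyc.orderOf.symm
    have h4 : orderOf c ∣ orderOf x := orderOf_cycleOf_dvd_orderOf x a
    obtain ⟨k, hk⟩ := h2
    have h5 : orderOf c ∣ 2 ^ k := h4.trans (orderOf_dvd_of_pow_eq_one hk)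
    obtain ⟨m, -, hm⟩ := (Nat.dvd_prime_pow Nat.prime_two).1 h5
    have hm0 : m ≠ 0 := by
      rintro rfl
      rw [pow_zero, orderOf_eq_one_iff] at hm
      exact hcyc.ne_one hm
    have h6 : Even c.support.card := by
      rw [h3, hm]
      exact (Nat.even_pow' hm0).2 even_two
    rw [h6.neg_one_pow]
  have hsu : sign u = -1 := by
    rcases Int.units_eq_one_or (sign u) with h | h
    · exact absurd (mem_alternatingGroup.2 h) hu
    · exact h
  have hui : u⁻¹ = u := inv_eq_of_mul_eq_one_left hu2
  have hcx : c * x = x * c := by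
    ext y
    rw [mul_apply, mul_apply, hc, cycleOf_apply, cycleOf_apply]
    by_cases h : x.SameCycle a y
    · rw [if_pos h, if_pos (sameCycle_apply_right.2 h)]
    · rw [if_neg h, if_neg (fun h' => h (sameCycle_apply_right.1 h'))]
  have huc : u * c * u = c⁻¹ := by
    rw [eq_inv_iff_mul_eq_one]
    ext y
    rw [mul_apply, mul_apply, mul_apply, one_apply, hc]
    by_cases h : x.SameCycle a y
    · have h1 : x.SameCycle a (x y) := sameCycle_apply_right.2 h
      rw [h.cycleOf_apply, (h1.trans (hus _)).cycleOf_apply]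
      have h2 := congrArg (fun g : Perm α => g (x y)) hux
      simpa using h2
    · rw [cycleOf_apply_of_not_sameCycle h, cycleOf_apply_of_not_sameCycle (fun h' => h (h'.trans (hus y).symm))]
      have h2 := congrArg (fun g : Perm α => g y) hu2
      simpa using h2
  refine ⟨c * u, ?_, ?_, ?_⟩
  · rw [mem_alternatingGroup, map_mul, hcs, hsu]; rfl
  · calc c * u * (c * u) = c * (u * c * u) := by group
      _ = 1 := by rw [huc, mul_inv_cancel]
  · calc c * u * x * (c * u) = c * (u * (x * c) * u) := by group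
      _ = c * (u * (c * x) * u) := by rw [hcx]
      _ = c * ((u * c * u) * (u * u)⁻¹ * (u * x * u)) := by group
      _ = x⁻¹ := by rw [huc, hux, hu2]; group

end Cfsg.Agent.ClosedAlt
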