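import Mathlib
import Cfsg.Prelude.Def_TwoFusion

/-!
# Strongly closed subgroups: conjugates (helper52, S1252)

`D A` : the elements of `G` conjugate to an element of `A`.  If `A` is strongly closed in the Sylow 2-subgroup `S` then
`D A` is closed under products inside 2-subgroups, and `D A ∩ S = A`.
-/

set_option autoImplicit false

namespace Cfsg.Agent.ClosedAlt

variable {G : Type*} [Group G]

/-- the conjugates of the elements of `A` -/
def D (A : Subgroup G) : Set G := {x | ∃ g : G, g * x * g⁻¹ ∈ A}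

theorem mem_D {A : Subgroup G} {x : G} : x ∈ D A ↔ ∃ g : G, g * x * g⁻¹ ∈ A := Iff.rfl

theorem le_D {A : Subgroup G} {x : G} (hx : x ∈ A) : x ∈ D A := ⟨1, by simpa using hx⟩

theorem one_mem_D {A : Subgroup G} : (1 : G) ∈ D A := le_D A.one_mem

theorem D_conj {A : Subgroup G} {x : G} (hx : x ∈ D A) (g : G) : g * x * g⁻¹ ∈ D A := by
  obtain ⟨k, hk⟩ := hx
  refine ⟨k * g⁻¹, ?_⟩
  have e : k * g⁻¹ * (g * x * g⁻¹) * (k * g⁻¹)⁻¹ = k * x * k⁻¹ := by group
  rwa [e]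

variable {S : Subgroup G} {A : Subgroup G}

theorem conj_mem_of_D (hA : Cfsg.IsStronglyClosed A S) {x g : G} (hx : x ∈ D A) (hg : g * x * g⁻¹ ∈ S) :
    g * x * g⁻¹ ∈ A := by
  obtain ⟨k, hk⟩ := hx
  have e : g * x * g⁻¹ = (g * k⁻¹) * (k * x * k⁻¹) * (g * k⁻¹)⁻¹ := by group
  rw [e]
  apply hA.2 _ hk
  rwa [← e]

theorem mem_of_D (hA : Cfsg.IsStronglyClosed A S) {x : G} (hx : x ∈ D A) (hS : x ∈ S) : x ∈ A := by
  have h := conj_mem_of_D hA (g := 1) hx (by simpa using hS)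
  simpa using h

/-- products inside 2-subgroups -/
theorem mul_mem_D [Finite G] {p : ℕ} [Fact p.Prime] {S : Sylow p G} (hA : Cfsg.IsStronglyClosed A (S : Subgroup G))
    {x y : G} (hx : x ∈ D A) (hy : y ∈ D A) {T : Subgroup G} (hT : IsPGroup p T) (hxT : x ∈ T) (hyT : y ∈ T) :
    x * y ∈ D A := by
  obtain ⟨P, hP⟩ := hT.exists_le_sylow
  obtain ⟨g, hg⟩ := MulAction.exists_smul_eq G P S
  have key : ∀ t ∈ T, g * t * g⁻¹ ∈ (S : Subgroup G) := by
    intro t ht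
    rw [← hg]
    exact ⟨t, hP ht, rfl⟩
  refine ⟨g, ?_⟩
  have e : g * (x * y) * g⁻¹ = (g * x * g⁻¹) * (g * y * g⁻¹) := by group
  rw [e]
  exact A.mul_mem (conj_mem_of_D hA hx (key x hxT)) (conj_mem_of_D hA hy (key y hyT))

/-- `⟨x, u⟩` is a `p`-group if `u` normalises `⟨x⟩` -/
theorem isPGroup_sup [Finite G] {p : ℕ} {x u : G} (hx : IsPGroup p (Subgroup.zpowers x))
    (hu : IsPGroup p (Subgroup.zpowers u)) (h : u * x * u⁻¹ ∈ Subgroup.zpowers x) :
    IsPGroup p (Subgroup.zpowers x ⊔ Subgroup.zpowers u : Subgroup G) := by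
  apply IsPGroup.to_sup_of_normal_left' hx hu
  rw [Subgroup.zpowers_le]
  apply Subgroup.mem_normalizer_fintype
  intro n hn
  obtain ⟨k, rfl⟩ := Subgroup.mem_zpowers_iff.1 hn
  have e : u * x ^ k * u⁻¹ = (u * x * u⁻¹) ^ k := by rw [conj_zpow]
  rw [e]
  exact Subgroup.zpow_mem _ h k

theorem isPGroup_two {x : G} (hx : x * x = 1) : IsPGroup 2 (Subgroup.zpowers x) := by
  rintro ⟨y, hy⟩
  obtain ⟨k, rfl⟩ := Subgroup.mem_zpowers_iff.1 hy
  refine ⟨1, Subtype.ext ?_⟩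
  show (x ^ k) ^ (2 ^ 1) = 1
  rw [pow_one, ← zpow_natCast, ← zpow_mul, mul_comm, zpow_mul, zpow_natCast, pow_two, hx, one_zpow]

end Cfsg.Agent.ClosedAlt
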